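import Groth.Agent.S0034
import Groth.Agent.DCohLib.ProjMap
import Groth.Agent.CurveLib.Euler
import Mathlib.RingTheory.Finiteness.Basic
/-!
Euler characteristics and base change of the field.
-/

set_option autoImplicit false
set_option backward.isDefEq.respectTransparency false

universe u

open CategoryTheory CategoryTheory.Limits AlgebraicGeometry TopologicalSpace TensorProduct

noncomputable section

namespace Groth.Agent.DegDevLib

variable (k : Type u) [Field k] (X : Scheme.{u}) [X.Over (Spec (CommRingCat.of k))]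
  (k' : Type u) [Field k'] [Algebra k k']

theorem nonempty_hh_bc [CompactSpace X] [QuasiSeparatedSpace X] (F : X.Modules) [Coh.IsQCoh F] (i : ℕ) :
    letI : (Curv2.bc k X k').Over (Spec (CommRingCat.of k')) := ⟨Curv2.bcSnd k X k'⟩
    Nonempty (k' ⊗[k] Coh.HH X F i ≃ₗ[k'] Coh.HH (Curv2.bc k X k') ((Scheme.Modules.pullback (Curv2.bcFst k X k')).obj F) i) := by
  letI : (Curv2.bc k X k').Over (Spec (CommRingCat.of k')) := ⟨Curv2.bcSnd k X k'⟩
  exact S0034.result k k' X (Curv2.bc k X k') (Curv2.bcFst k X k') (IsPullback.of_hasPullback _ _) F i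

theorem euler_bc [CompactSpace X] [QuasiSeparatedSpace X] (F : X.Modules) [Coh.IsQCoh F] :
    @Curv2.euler k' _ (Curv2.bc k X k') ⟨Curv2.bcSnd k X k'⟩
        ((Scheme.Modules.pullback (Curv2.bcFst k X k')).obj F) = Curv2.euler k X F := by
  letI : (Curv2.bc k X k').Over (Spec (CommRingCat.of k')) := ⟨Curv2.bcSnd k X k'⟩
  refine finsum_congr fun i => ?_
  obtain ⟨e⟩ := nonempty_hh_bc k X k' F i
  rw [← e.finrank_eq, Module.finrank_baseChange]

theorem deg_bc [IsProper (X ↘ Spec (CommRingCat.of k))] [CompactSpace X] [QuasiSeparatedSpace X] (F : X.Modules) [Coh.IsQCoh F] (n : ℕ) :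
    @Curv2.deg k' _ (Curv2.bc k X k') ⟨Curv2.bcSnd k X k'⟩
        ((Scheme.Modules.pullback (Curv2.bcFst k X k')).obj F) n = Curv2.deg k X F n := by
  letI : (Curv2.bc k X k').Over (Spec (CommRingCat.of k')) := ⟨Curv2.bcSnd k X k'⟩
  haveI : IsProper (Curv2.bc k X k' ↘ Spec (CommRingCat.of k')) :=
    inferInstanceAs (IsProper (pullback.snd _ _))
  haveI : Coh.IsQCoh (Coh.structureModule X) := CohBase.isQCoh_structureModule
  simp only [Curv2.deg, euler_bc k X k' F, ← euler_bc k X k' (Coh.structureModule X)]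
  rw [CurveLib.euler_iso (K := k') (DCohLib.pullStructureIso (Curv2.bcFst k X k'))]

end Groth.Agent.DegDevLib
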