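import Groth.Agent.DegDevLib.Deg
import Groth.Agent.DCohLib.StalkRestrictFree
import Groth.Agent.ParaFLib.Stalk
import Groth.Agent.S2356
/-!
Frames of locally free modules and maps out of free modules, on stalks.
-/

set_option autoImplicit false
set_option backward.isDefEq.respectTransparency false
set_option linter.style.haveILetI false

universe u

open CategoryTheory CategoryTheory.Limits AlgebraicGeometry TopologicalSpace
open Groth.Agent.PullbackMod Groth.Agent.DCohLib Groth.Agent.CurveLib

noncomputable section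

namespace Groth.Agent.DegDevLib

variable {X : Scheme.{u}}

/-- The map out of a free module given by global sections. -/
def descS {F : X.Modules} {n : ℕ} (σ : Fin n → Γ(F, ⊤)) : FlatMod.freeMod X n ⟶ F :=
  Sigma.desc fun i => secHom F (σ i)

/-- The standard germs of a free module. -/
def stdGerm (n : ℕ) (x : X) (i : Fin n) : (FlatMod.freeMod X n).presheaf.stalk x :=
  stalkLin (Sigma.ι (fun _ : Fin n => Coh.structureModule X) i) x (ParaFLib.oneG x)

theorem stdGerm_bijective (n : ℕ) (x : X) :
    Function.Bijective (Fintype.linearCombination (X.presheaf.stalk x) (stdGerm n x)) := by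
  classical
  let π : Fin n → (FlatMod.freeMod X n ⟶ Coh.structureModule X) := fun j =>
    Sigma.desc fun i => if i = j then 𝟙 _ else 0
  have hπι : ∀ i j, Sigma.ι (fun _ : Fin n => Coh.structureModule X) i ≫ π j = if i = j then 𝟙 _ else 0 :=
    fun i j => Sigma.ι_desc _ _
  have hπ : ∀ i j, stalkLin (π j) x (stdGerm n x i) = if i = j then ParaFLib.oneG x else 0 := fun i j => by
    rw [stdGerm, ← LinearMap.comp_apply, ← stalkLin_comp, hπι]
    split_ifs
    · exact stalkLin_id _ _
    · exact stalkLin_zero_apply _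
  constructor
  · rw [injective_iff_map_eq_zero]
    intro r hr
    funext j
    have h := congrArg (stalkLin (π j) x) hr
    rw [Fintype.linearCombination_apply, map_sum, map_zero, Finset.sum_eq_single j] at h
    · rw [map_smul, hπ, if_pos rfl] at h
      exact (ParaFLib.bijective_oneG x).1 (h.trans (zero_smul _ _).symm)
    · intro i _ hi
      rw [map_smul, hπ, if_neg hi, smul_zero]
    · exact fun h' => absurd (Finset.mem_univ j) h'
  · intro z
    have hid : 𝟙 (FlatMod.freeMod X n) = ∑ j, π j ≫ Sigma.ι (fun _ : Fin n => Coh.structureModule X) j :=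
      Sigma.hom_ext _ _ fun i => by
        rw [Category.comp_id, Preadditive.comp_sum, Finset.sum_eq_single i]
        · rw [← Category.assoc, hπι]; simp
        · intro j _ hj
          rw [← Category.assoc, hπι, if_neg (Ne.symm hj), zero_comp]
        · exact fun h' => absurd (Finset.mem_univ i) h'
    choose r hr using fun j => (ParaFLib.bijective_oneG x).2 (stalkLin (π j) x z)
    refine ⟨r, ?_⟩
    rw [Fintype.linearCombination_apply]
    conv_rhs => rw [← stalkLin_id (FlatMod.freeMod X n) z, hid, stalkLin_sum_apply]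
    refine Finset.sum_congr rfl fun j _ => ?_
    rw [stalkLin_comp, LinearMap.comp_apply, ← hr j, map_smul]
    rfl
where
  stalkLin_id (M : X.Modules) (z : M.presheaf.stalk x) : stalkLin (𝟙 M) x z = z := by
    obtain ⟨U, hx, m, rfl⟩ := TopCat.Presheaf.exists_germ_eq M.presheaf z
    rw [stalkLin_germ]
    rfl
  stalkLin_zero_apply {M N : X.Modules} (z : M.presheaf.stalk x) : stalkLin (0 : M ⟶ N) x z = 0 := by
    obtain ⟨U, hx, m, rfl⟩ := TopCat.Presheaf.exists_germ_eq M.presheaf z
    rw [stalkLin_germ, Scheme.Modules.Hom.zero_app]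
    exact map_zero _
  stalkLin_sum_apply {M N : X.Modules} {ι : Type} [Fintype ι] (f : ι → (M ⟶ N)) (z : M.presheaf.stalk x) :
      stalkLin (∑ j, f j) x z = ∑ j, stalkLin (f j) x z := by
    classical
    refine Finset.induction_on (Finset.univ : Finset ι) ?_ fun a s ha ih => ?_
    · rw [Finset.sum_empty, Finset.sum_empty]
      exact stalkLin_zero_apply _
    · rw [Finset.sum_insert ha, Finset.sum_insert ha, DevLib.stalkLin_add, LinearMap.add_apply, ih]

theorem descS_stdGerm {F : X.Modules} {n : ℕ} (σ : Fin n → Γ(F, ⊤)) (x : X) (i : Fin n) :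
    stalkLin (descS σ) x (stdGerm n x i) = F.presheaf.germ ⊤ x trivial (σ i) := by
  rw [stdGerm, ← LinearMap.comp_apply, ← stalkLin_comp, descS, Sigma.ι_desc]
  exact stalkLin_secHom (σ i) x

/-- Sections forming a basis of every stalk. -/
def IsFrame {n : ℕ} {E : X.Modules} (U : X.Opens) (f : Fin n → Γ(E, U)) : Prop :=
  ∀ (y : X) (hy : y ∈ U), Function.Bijective
    (Fintype.linearCombination (X.presheaf.stalk y) fun i => E.presheaf.germ U y hy (f i))

theorem IsFrame.res {n : ℕ} {E : X.Modules} {U V : X.Opens} {f : Fin n → Γ(E, U)} (h : IsFrame U f) (hVU : V ≤ U) :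
    IsFrame V (fun i => E.presheaf.map (homOfLE hVU).op (f i)) := fun y hy => by
  simp only [TopCat.Presheaf.germ_res_apply]
  exact h y (hVU hy)

/-- A frame is a basis of the sections over every smaller open. -/
theorem IsFrame.bijective {n : ℕ} {E : X.Modules} {U : X.Opens} {f : Fin n → Γ(E, U)} (h : IsFrame U f) :
    Function.Bijective (Fintype.linearCombination Γ(X, U) f) := by
  have hger : ∀ (y : X) (hy : y ∈ U) (W : X.Opens) (i : W ⟶ U) (hyW : y ∈ W) (r : Fin n → Γ(X, W)),
      E.presheaf.germ W y hyW (∑ j, r j • E.presheaf.map i.op (f j)) =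
        Fintype.linearCombination (X.presheaf.stalk y) (fun j => E.presheaf.germ U y hy (f j))
          (fun j => X.presheaf.germ W y hyW (r j)) := fun y hy W i hyW r => by
    rw [Fintype.linearCombination_apply, map_sum]
    refine Finset.sum_congr rfl fun j _ => ?_
    rw [← E.presheaf.germ_res_apply i y hyW (f j)]
    exact PresheafOfModules.germ_smul (R := X.presheaf) E.val y W hyW (r j) _
  have hid : ∀ v : Γ(E, U), E.presheaf.map (homOfLE (le_refl U)).op v = v := fun v =>
    ConcreteCategory.congr_hom (E.presheaf.map_id _) v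
  have hinj : ∀ (W : X.Opens) (i : W ⟶ U) (r r' : Fin n → Γ(X, W)),
      (∑ j, r j • E.presheaf.map i.op (f j)) = (∑ j, r' j • E.presheaf.map i.op (f j)) → r = r' := by
    intro W i r r' hrr
    funext j
    refine TopCat.Presheaf.section_ext X.sheaf W _ _ fun y hy => ?_
    have h1 := congrArg (E.presheaf.germ W y hy) hrr
    rw [hger y (i.le hy) W i hy r, hger y (i.le hy) W i hy r'] at h1
    exact congrFun ((h y (i.le hy)).1 h1) j
  refine ⟨fun r r' hrr => ?_, fun z => ?_⟩
  · refine hinj U (homOfLE le_rfl) r r' ?_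
    simp only [hid]
    simpa [Fintype.linearCombination_apply] using hrr
  · have hloc : ∀ y : U, ∃ (W : X.Opens) (i : W ⟶ U) (_ : y.1 ∈ W) (r : Fin n → Γ(X, W)),
        (∑ j, r j • E.presheaf.map i.op (f j)) = E.presheaf.map i.op z := by
      rintro ⟨y, hy⟩
      obtain ⟨a, ha⟩ := (h y hy).2 (E.presheaf.germ U y hy z)
      choose W hW s hs using fun j => TopCat.Presheaf.exists_germ_eq X.presheaf (a j)
      let W₀ : X.Opens := Finset.univ.inf W ⊓ U
      have hy₀ : y ∈ W₀ := ⟨by
        show y ∈ ((Finset.univ.inf W : X.Opens) : Set X)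
        rw [TopologicalSpace.Opens.coe_finset_inf]
        simpa using fun j => hW j, hy⟩
      have hle : ∀ j, W₀ ≤ W j := fun j => inf_le_left.trans (Finset.inf_le (Finset.mem_univ j))
      let r : Fin n → Γ(X, W₀) := fun j => X.presheaf.map (homOfLE (hle j)).op (s j)
      have e : E.presheaf.germ W₀ y hy₀ (∑ j, r j • E.presheaf.map (homOfLE (inf_le_right : W₀ ≤ U)).op (f j)) =
          E.presheaf.germ W₀ y hy₀ (E.presheaf.map (homOfLE (inf_le_right : W₀ ≤ U)).op z) := by
        rw [hger y hy W₀ _ hy₀ r, E.presheaf.germ_res_apply]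
        refine Eq.trans (congrArg _ (funext fun j => ?_)) ha
        exact (X.presheaf.germ_res_apply _ _ _ _).trans (hs j)
      obtain ⟨W₁, hy₁, i₁, i₂, e₁⟩ := TopCat.Presheaf.germ_eq E.presheaf y hy₀ hy₀ _ _ e
      obtain rfl : i₁ = i₂ := Subsingleton.elim _ _
      refine ⟨W₁, i₁ ≫ homOfLE inf_le_right, hy₁, fun j => X.presheaf.map i₁.op (r j), ?_⟩
      rw [op_comp, Functor.map_comp]
      refine Eq.trans ?_ e₁
      rw [map_sum]
      exact Finset.sum_congr rfl fun j _ => (Scheme.Modules.map_smul E i₁ (r j) (E.presheaf.map (homOfLE (inf_le_right : W₀ ≤ U)).op (f j))).symm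
    choose W i hyW r hr using hloc
    have hcov : U ≤ iSup W := fun y hy => Opens.mem_iSup.2 ⟨⟨y, hy⟩, hyW ⟨y, hy⟩⟩
    have hcompat : ∀ (j : Fin n), TopCat.Presheaf.IsCompatible X.presheaf W (fun y => r y j) := fun j a b => by
      refine congrFun (hinj _ (Opens.infLELeft (W a) (W b) ≫ i a)
        (fun j => X.presheaf.map (Opens.infLELeft (W a) (W b)).op (r a j))
        (fun j => X.presheaf.map (Opens.infLERight (W a) (W b)).op (r b j)) ?_) j
      have ha := congrArg (E.presheaf.map (Opens.infLELeft (W a) (W b)).op) (hr a)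
      have hb := congrArg (E.presheaf.map (Opens.infLERight (W a) (W b)).op) (hr b)
      simp only [map_sum, Scheme.Modules.map_smul, ← ConcreteCategory.comp_apply, ← Functor.map_comp, ← op_comp] at ha hb
      rw [show Opens.infLERight (W a) (W b) ≫ i b = Opens.infLELeft (W a) (W b) ≫ i a from Subsingleton.elim _ _] at hb
      exact ha.trans hb.symm
    choose R hR using fun j => (X.sheaf.existsUnique_gluing' W U i hcov _ (hcompat j)).exists
    refine ⟨R, TopCat.Sheaf.eq_of_locally_eq' (⟨E.presheaf, E.isSheaf⟩ : TopCat.Sheaf Ab X.carrier) W U i hcov _ _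
      fun y => ?_⟩
    show E.presheaf.map (i y).op _ = E.presheaf.map (i y).op z
    rw [Fintype.linearCombination_apply, map_sum, ← hr y]
    refine Finset.sum_congr rfl fun j _ => ?_
    rw [Scheme.Modules.map_smul]
    exact congrArg (· • _) (hR j y)

/-- Frames near finitely many points of an affine open. -/
theorem exists_frame {n : ℕ} {E : X.Modules} (hE : FlatMod.IsFinLocFreeOfRank n E) {Z : Set X} (hZ : Z.Finite)
    {V : X.Opens} (hV : IsAffineOpen V) (hZV : Z ⊆ V) :
    ∃ (U : X.Opens) (f : Fin n → Γ(E, U)), Z ⊆ U ∧ U ≤ V ∧ IsFrame U f := by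
  obtain ⟨U, hZU, hUV, ⟨e⟩⟩ := Groth.Agent.S2356.result X n E hE Z hZ V hV hZV
  let E' := E.restrict U.ι
  let σ : Fin n → Γ(E', ⊤) := fun i =>
    (Sigma.ι (fun _ : Fin n => Coh.structureModule (U : Scheme.{u})) i ≫ e.inv).app ⊤ (1 : Γ(U, ⊤))
  have hle : U ≤ U.ι ''ᵁ ⊤ := U.ι_image_top.ge
  refine ⟨U, fun i => E.presheaf.map (homOfLE hle).op (σ i), hZU, hUV, fun y hy => ?_⟩
  let y' : U := ⟨y, hy⟩
  let T : (Fin n → (U : Scheme.{u}).presheaf.stalk y') → E'.presheaf.stalk y' := fun r =>
    stalkLin e.inv y' (Fintype.linearCombination ((U : Scheme.{u}).presheaf.stalk y') (stdGerm (X := (U : Scheme.{u})) n y') r)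
  have hT : Function.Bijective T :=
    ((PullbackMod.isIso_iff_stalk e.inv).1 inferInstance y').comp (stdGerm_bijective (X := (U : Scheme.{u})) n y')
  let σr := (asIso (U.ι.stalkMap y')).commRingCatIsoToRingEquiv
  let eS : E'.presheaf.stalk y' ≃+ E.presheaf.stalk y :=
    ((Scheme.Modules.restrictStalkNatIso U.ι y').app E).addCommGroupIsoToAddEquiv
  have hgerm : ∀ i, eS (stalkLin e.inv y' (stdGerm (X := (U : Scheme.{u})) n y' i)) = E.presheaf.germ U y hy (E.presheaf.map (homOfLE hle).op (σ i)) := by
    intro i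
    have h1 : stalkLin e.inv y' (stdGerm (X := (U : Scheme.{u})) n y' i) = E'.presheaf.germ ⊤ y' trivial (σ i) := by
      rw [stdGerm, ← LinearMap.comp_apply, ← stalkLin_comp, ← AmpleLib.secHom_sec (_ ≫ e.inv)]
      exact stalkLin_secHom _ _
    rw [h1, E.presheaf.germ_res_apply]
    exact ConcreteCategory.congr_hom (Scheme.Modules.germ_restrictStalkNatIso_hom_app U.ι y' E (show y' ∈ (⊤ : (U : Scheme.{u}).Opens) from trivial)) (σ i)
  have hsemi : ∀ r, eS (T (fun j => σr (r j))) = Fintype.linearCombination (X.presheaf.stalk y)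
      (fun i => E.presheaf.germ U y hy (E.presheaf.map (homOfLE hle).op (σ i))) r := fun r => by
    simp only [T, Fintype.linearCombination_apply, map_sum, map_smul]
    refine Finset.sum_congr rfl fun i _ => ?_
    rw [← hgerm i]
    refine (restrictStalk_smul U.ι E y' _ _).trans ?_
    rw [RingEquiv.symm_apply_apply]
    rfl
  rw [show (⇑(Fintype.linearCombination (X.presheaf.stalk y)
      (fun i => E.presheaf.germ U y hy (E.presheaf.map (homOfLE hle).op (σ i))))) =
    eS ∘ T ∘ (Equiv.piCongrRight fun _ => σr.toEquiv) from funext fun r => (hsemi r).symm]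
  exact eS.bijective.comp (hT.comp (Equiv.bijective _))

end Groth.Agent.DegDevLib
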