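import Groth.Agent.DegDevLib.Dim
import Groth.Agent.CurveLib.DegTensor
import Groth.Agent.CurveLib.TensorExact
/-!
`χ(F ⊗ E)` for finite locally free `E` and `F` with support of dimension at most one.
-/

set_option autoImplicit false
set_option backward.isDefEq.respectTransparency false
set_option linter.style.haveILetI false

universe u

open CategoryTheory CategoryTheory.Limits AlgebraicGeometry TopologicalSpace TensorProduct
open Groth.Agent.PullbackMod Groth.Agent.DCohLib Groth.Agent.DevLib Groth.Agent.CurveLib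
open Groth.Agent.IntLib

noncomputable section

namespace Groth.Agent.DegDevLib

variable {X : Scheme.{u}} {n : ℕ} {E : X.Modules}

/-- The stalk of a tensor product with a locally free module. -/
theorem nonempty_stalk_tmod (hE : FlatMod.IsFinLocFreeOfRank n E) (M : X.Modules) (x : X) :
    Nonempty ((tmod M E).presheaf.stalk x ≃ₗ[X.presheaf.stalk x] (Fin n → M.presheaf.stalk x)) := by
  obtain ⟨e⟩ := freeAt_of_isFinLocFreeOfRank hE x
  exact ⟨(stalkTensor x M E).symm ≪≫ₗ LinearEquiv.lTensor _ e ≪≫ₗ TensorProduct.piScalarRight _ _ _ (Fin n)⟩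

theorem isCoh_of_rank [IsLocallyNoetherian X] (hE : FlatMod.IsFinLocFreeOfRank n E) : Coh.IsCoh E :=
  CurveLib.isCoh_of_isFinLocFree fun y => by
    obtain ⟨V, hy, he⟩ := hE y
    exact ⟨V, n, hy, he⟩

variable (k : Type u) [Field k] [X.Over (Spec (CommRingCat.of k))]

/-- `χ(M ⊗ E) - n χ(M)`. -/
def twEuler (n : ℕ) (E M : X.Modules) : ℤ := Curv2.euler k X (tmod M E) - n * Curv2.euler k X M

theorem twEuler_structure [IsProper (X ↘ Spec (CommRingCat.of k))] :
    twEuler k n E (Coh.structureModule X) = Curv2.deg k X E n := by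
  rw [twEuler, Curv2.deg, euler_iso (K := k) (tmodUnit E)]

theorem twEuler_shortExact [IsProper (X ↘ Spec (CommRingCat.of k))] (hE : FlatMod.IsFinLocFreeOfRank n E)
    (S : ShortComplex X.Modules) (hS : S.ShortExact) (h₁ : Coh.IsCoh S.X₁) (h₂ : Coh.IsCoh S.X₂)
    (h₃ : Coh.IsCoh S.X₃) : twEuler k n E S.X₂ = twEuler k n E S.X₁ + twEuler k n E S.X₃ := by
  haveI := EulerIneqLib.isNoetherian_proper (X := X) k
  have hEc := isCoh_of_rank hE
  have h := euler_shortExact (K := k) (shortExact_tensR hS (freeAt_of_isFinLocFreeOfRank hE))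
    (isCoh_tmod h₁ hEc) (isCoh_tmod h₂ hEc) (isCoh_tmod h₃ hEc)
  change Curv2.euler k X (tmod S.X₂ E) = Curv2.euler k X (tmod S.X₁ E) + Curv2.euler k X (tmod S.X₃ E) at h
  rw [twEuler, twEuler, twEuler, h, euler_shortExact (K := k) hS h₁ h₂ h₃]
  ring

theorem twEuler_small [IsProper (X ↘ Spec (CommRingCat.of k))] (hE : FlatMod.IsFinLocFreeOfRank n E) {M : X.Modules}
    (hM : Coh.IsCoh M) (hd : topologicalKrullDim (CohB1.support M) ≤ 0) : twEuler k n E M = 0 := by
  haveI := EulerIneqLib.isNoetherian_proper (X := X) k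
  rw [twEuler, euler_eq_mul (k := k) hM (isCoh_tmod hM (isCoh_of_rank hE)) (DevLib.isClosed_support hM) subset_rfl hd n
    (nonempty_stalk_tmod hE M), sub_self]

theorem twEuler_isZero [IsProper (X ↘ Spec (CommRingCat.of k))] {M : X.Modules} (hM : IsZero M) :
    twEuler k n E M = 0 := by
  have h0 : ∀ {N : X.Modules}, IsZero N → Curv2.euler k X N = 0 := fun {N} hN => by
    have h := pairing_isZero k hN (1 : PicRing X)
    rwa [pairing_one] at h
  have h1 : Curv2.euler k X (tmod M E) = 0 := h0 ((tensR E).map_isZero hM)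
  rw [twEuler, h1, h0 hM, mul_zero, sub_self]

/-- `χ(i_* O ⊗ E) - n χ(i_* O) = deg(i^* E)`. -/
theorem twEuler_push [IsProper (X ↘ Spec (CommRingCat.of k))] (hE : FlatMod.IsFinLocFreeOfRank n E)
    (J : X.IdealSheafData) :
    twEuler k n E (ClSub.quotMod J) = @Curv2.deg k _ J.subscheme ⟨J.subschemeι ≫ (X ↘ Spec (CommRingCat.of k))⟩
      ((Scheme.Modules.pullback J.subschemeι).obj E) n := by
  haveI := EulerIneqLib.isNoetherian_proper (X := X) k
  letI : J.subscheme.Over (Spec (CommRingCat.of k)) := ⟨J.subschemeι ≫ (X ↘ Spec (CommRingCat.of k))⟩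
  haveI : IsProper (J.subscheme ↘ Spec (CommRingCat.of k)) :=
    inferInstanceAs (IsProper (J.subschemeι ≫ (X ↘ Spec (CommRingCat.of k))))
  haveI : Coh.IsQCoh E := (isCoh_of_rank hE).1
  haveI : Coh.IsQCoh ((Scheme.Modules.pullback J.subschemeι).obj E) := PullbackMod.isQCoh_pullback _ E
  haveI : Coh.IsQCoh (tmod (Coh.structureModule J.subscheme) ((Scheme.Modules.pullback J.subschemeι).obj E)) :=
    BCLib.isQCoh_tmod _ _
  rw [twEuler, Curv2.deg]
  refine congrArg₂ (fun a b : ℤ => a - (n : ℤ) * b) ?_ (euler_push k J.subschemeι rfl _)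
  exact (euler_iso (K := k) (projIso J.subschemeι _ E)).trans
    ((euler_push k J.subschemeι rfl _).trans (euler_iso (K := k) (tmodUnit _)))

/-- `χ(F ⊗ E) - n χ(F)` through the one-dimensional points of the support of `F`. -/
theorem twEuler_decomp [IsProper (X ↘ Spec (CommRingCat.of k))] (hE : FlatMod.IsFinLocFreeOfRank n E) {F : X.Modules}
    (hF : Coh.IsCoh F) (hd : topologicalKrullDim (CohB1.support F) ≤ 1) :
    twEuler k n E F = ∑ᶠ ξ : X, (if topologicalKrullDim (closure ({ξ} : Set X)) = 1 then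
      ((Module.length (X.presheaf.stalk ξ) (F.presheaf.stalk ξ)).toNat : ℤ) * twEuler k n E (compMod ξ) else 0) := by
  classical
  haveI := EulerIneqLib.isNoetherian_proper (X := X) k
  have hd' : topologicalKrullDim (CohB1.support F) ≤ ((1 : ℕ) : WithBot ℕ∞) := by rw [Nat.cast_one]; exact hd
  have hfin := finite_top_points (DevLib.isClosed_support hF) hd'
  obtain ⟨-, h⟩ := additive_decomp (twEuler k n E)
    (fun A B ⟨e⟩ => by
      have h1 : Curv2.euler k X (tmod A E) = Curv2.euler k X (tmod B E) := euler_iso (K := k) ((tensR E).mapIso e)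
      rw [twEuler, twEuler, euler_iso (K := k) e, h1])
    (fun S hS h₁ h₂ h₃ => twEuler_shortExact k hE S hS h₁ h₂ h₃)
    (fun N hN => twEuler_isZero k hN) (r := 1)
    (fun N hN hlt => twEuler_small k hE hN (by
      exact le_of_le_of_eq (IntLib.dim_le_of_lt (q := 0) hlt) Nat.cast_zero))
    hF hd' hfin.toFinset (fun ξ => by simp)
  rw [h, finsum_eq_sum_of_support_subset (s := hfin.toFinset)]
  · refine Finset.sum_congr rfl fun ξ hξ => ?_
    rw [if_pos ((hfin.mem_toFinset.1 hξ).2.trans Nat.cast_one), zsmul_eq_mul, Int.cast_id]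
  · intro ξ hξ
    rw [Function.mem_support] at hξ
    split_ifs at hξ with hξd
    · refine hfin.mem_toFinset.2 ⟨fun hsub => hξ ?_, hξd.trans Nat.cast_one.symm⟩
      haveI : Subsingleton (F.presheaf.stalk ξ) := hsub
      rw [Module.length_eq_zero]
      simp
    · exact absurd rfl hξ

end Groth.Agent.DegDevLib
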