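import Groth.Agent.DegDevLib.Wedge
import Groth.Agent.S0612
import Groth.Agent.S1576
import Groth.Agent.S1604
import Groth.Agent.S7637
import Groth.Agent.AssLib.Noetherian
import Groth.Agent.AmpleLib.ExtendMod
import Groth.Agent.AmpleEmb.FiniteSet
import Groth.Agent.CurveGlueLib.Ample
import Groth.Agent.PicProjLib.Affine
/-!
The degree of a bundle is the degree of its determinant.
-/

set_option autoImplicit false
set_option backward.isDefEq.respectTransparency false
set_option linter.style.haveILetI false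

universe u

open CategoryTheory CategoryTheory.Limits AlgebraicGeometry TopologicalSpace TensorProduct
open Groth.Agent.PullbackMod Groth.Agent.DCohLib Groth.Agent.ParaFLib Groth.Agent.AmpleLib

noncomputable section

namespace Groth.Agent.DegDevLib

variable {X : Scheme.{u}}

theorem det_linearCombination {R : Type*} [CommRing R] {n : ℕ} (A : Matrix (Fin n) (Fin n) R) :
    LinearMap.det (Fintype.linearCombination R fun i => A i) = A.det := by
  classical
  rw [← LinearMap.det_toMatrix (Pi.basisFun R (Fin n)), ← A.det_transpose]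
  congr 1
  ext i j
  simp [LinearMap.toMatrix_apply, Fintype.linearCombination_apply_single]

theorem injective_linearCombination {R : Type*} [CommRing R] {n : ℕ} (A : Matrix (Fin n) (Fin n) R)
    (hA : A.det ∈ nonZeroDivisors R) : Function.Injective (Fintype.linearCombination R fun i => A i) := by
  classical
  have hlin : ∀ r : Fin n → R, Fintype.linearCombination R (fun i => A i) r = Matrix.vecMul r A := fun r => by
    funext j
    simp [Fintype.linearCombination_apply, Matrix.vecMul, dotProduct, Finset.sum_apply]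
  refine (injective_iff_map_eq_zero _).2 fun r hr => ?_
  rw [hlin] at hr
  have h := congrArg (fun v => Matrix.vecMul v A.adjugate) hr
  simp only [Matrix.vecMul_vecMul, Matrix.mul_adjugate, Matrix.zero_vecMul, Matrix.vecMul_smul, Matrix.vecMul_one] at h
  funext i
  exact ((mem_nonZeroDivisors_iff.1 hA).1 _) (congrFun h i)

/-- The cokernel of a map of free stalks given by a matrix. -/
theorem length_coker_descS [IsLocallyNoetherian X] {F : X.Modules} {n : ℕ} (σ : Fin n → Γ(F, ⊤)) (x : X)
    [Mono (descS σ)] (bT : Fin n → F.presheaf.stalk x)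
    (hbT : Function.Bijective (Fintype.linearCombination (X.presheaf.stalk x) bT))
    (A : Matrix (Fin n) (Fin n) (X.presheaf.stalk x)) (hA : A.det ∈ nonZeroDivisors (X.presheaf.stalk x))
    (h : ∀ i, F.presheaf.germ ⊤ x trivial (σ i) = ∑ j, A i j • bT j) :
    Module.length (X.presheaf.stalk x) ((cokernel (descS σ)).presheaf.stalk x) = Ring.ord (X.presheaf.stalk x) A.det := by
  classical
  let R := X.presheaf.stalk x
  let eT : (Fin n → R) ≃ₗ[R] F.presheaf.stalk x := LinearEquiv.ofBijective _ hbT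
  let Λ : (Fin n → R) →ₗ[R] (Fin n → R) := Fintype.linearCombination R fun i => A i
  have hdet : LinearMap.det Λ = A.det := det_linearCombination A
  have hcomp : (stalkLin (descS σ) x).comp (Fintype.linearCombination R (stdGerm n x)) = eT.toLinearMap.comp Λ := by
    refine LinearMap.pi_ext' fun i => LinearMap.ext_ring ?_
    simp only [LinearMap.comp_apply, LinearMap.single_apply, Fintype.linearCombination_apply_single, one_smul, Λ]
    show stalkLin (descS σ) x (stdGerm n x i) = Fintype.linearCombination R bT (A i)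
    rw [descS_stdGerm, h i, Fintype.linearCombination_apply]
  have hker : LinearMap.ker (stalkLin (cokernel.π (descS σ)) x) = (LinearMap.range Λ).map eT.toLinearMap := by
    rw [(DevLib.coker_exact (descS σ) x).linearMap_ker_eq, ← LinearMap.range_comp, ← hcomp, LinearMap.range_comp,
      LinearMap.range_eq_top.2 (stdGerm_bijective n x).2, Submodule.map_top]
  have h0 := S0612.result Λ (by rw [hdet]; exact hA)
  rw [hdet] at h0
  rw [← h0]
  exact ((Submodule.Quotient.equiv _ _ eT hker.symm).trans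
    (LinearMap.quotKerEquivOfSurjective _ (DevLib.coker_surjective (descS σ) x))).length_eq.symm

theorem mono_descS {F : X.Modules} {n : ℕ} (σ : Fin n → Γ(F, ⊤))
    (h : ∀ x : X, ∃ (bT : Fin n → F.presheaf.stalk x) (A : Matrix (Fin n) (Fin n) (X.presheaf.stalk x)),
      Function.Bijective (Fintype.linearCombination (X.presheaf.stalk x) bT) ∧ A.det ∈ nonZeroDivisors (X.presheaf.stalk x) ∧
      ∀ i, F.presheaf.germ ⊤ x trivial (σ i) = ∑ j, A i j • bT j) : Mono (descS σ) := by
  classical
  refine (mono_iff_stalk _).2 fun x => ?_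
  obtain ⟨bT, A, hbT, hA, hrel⟩ := h x
  have hcomp : (stalkLin (descS σ) x).comp (Fintype.linearCombination (X.presheaf.stalk x) (stdGerm n x)) =
      (Fintype.linearCombination (X.presheaf.stalk x) bT).comp (Fintype.linearCombination (X.presheaf.stalk x) fun i => A i) := by
    refine LinearMap.pi_ext' fun i => LinearMap.ext_ring ?_
    simp only [LinearMap.comp_apply, LinearMap.single_apply, Fintype.linearCombination_apply_single, one_smul]
    rw [descS_stdGerm, hrel i, Fintype.linearCombination_apply]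
  intro a b hab
  obtain ⟨a, rfl⟩ := (stdGerm_bijective n x).2 a
  obtain ⟨b, rfl⟩ := (stdGerm_bijective n x).2 b
  have h1 := LinearMap.congr_fun hcomp a
  have h2 := LinearMap.congr_fun hcomp b
  simp only [LinearMap.comp_apply] at h1 h2
  rw [injective_linearCombination A hA (hbT.1 (h1.symm.trans (hab.trans h2)))]

section Euler

variable (k : Type u) [Field k] [X.Over (Spec (CommRingCat.of k))] [IsProper (X ↘ Spec (CommRingCat.of k))]

theorem isFinLocFreeOfRank_freeMod (n : ℕ) : FlatMod.IsFinLocFreeOfRank n (FlatMod.freeMod X n) := fun _ =>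
  ⟨⊤, trivial, ⟨DCohLib.restrictFreeMod _ n⟩⟩

theorem euler_isZero {N : X.Modules} (hN : IsZero N) : Curv2.euler k X N = 0 := by
  have h := IntLib.pairing_isZero k hN (1 : IntLib.PicRing X)
  rwa [IntLib.pairing_one] at h

theorem euler_freeMod : ∀ n : ℕ, Curv2.euler k X (FlatMod.freeMod X n) = n * Curv2.euler k X (Coh.structureModule X)
  | 0 => by
    rw [euler_isZero k (N := FlatMod.freeMod X 0) ((IsZero.iff_id_eq_zero _).2 (Sigma.hom_ext _ _ fun i => i.elim0))]
    simp
  | n + 1 => by
    classical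
    haveI := EulerIneqLib.isNoetherian_proper (X := X) k
    let S : ShortComplex X.Modules := ShortComplex.mk
      (Sigma.ι (fun _ : Fin (n + 1) => Coh.structureModule X) (Fin.last n))
      (Sigma.desc fun i : Fin (n + 1) => Fin.lastCases 0 (fun j => Sigma.ι (fun _ : Fin n => Coh.structureModule X) j) i)
      (by simp)
    let sp : S.Splitting :=
      { r := Sigma.desc fun i => if i = Fin.last n then 𝟙 _ else 0
        s := Sigma.desc fun j => Sigma.ι (fun _ : Fin (n + 1) => Coh.structureModule X) j.castSucc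
        f_r := by simp [S]
        s_g := Sigma.hom_ext _ _ fun j => by simp [S]
        id := Sigma.hom_ext _ _ fun i => by
          induction i using Fin.lastCases with
          | last => simp [S]
          | cast j => simp [S, (Fin.castSucc_lt_last j).ne] }
    have h := CurveLib.euler_shortExact (K := k) sp.shortExact (DevLib.isCoh_structureModule X)
      (isCoh_of_rank (isFinLocFreeOfRank_freeMod (n + 1))) (isCoh_of_rank (isFinLocFreeOfRank_freeMod n))
    change Curv2.euler k X (FlatMod.freeMod X (n + 1)) =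
      Curv2.euler k X (Coh.structureModule X) + Curv2.euler k X (FlatMod.freeMod X n) at h
    rw [h, euler_freeMod n]
    push_cast
    ring

/-- Equal lengths in dimension zero give equal Euler characteristics. -/
theorem euler_eq_of_length {Q Q' : X.Modules} (hQ : Coh.IsCoh Q) (hQ' : Coh.IsCoh Q')
    (hd : topologicalKrullDim (CohB1.support Q) ≤ 0)
    (h : ∀ x, Module.length (X.presheaf.stalk x) (Q.presheaf.stalk x) = Module.length (X.presheaf.stalk x) (Q'.presheaf.stalk x)) :
    Curv2.euler k X Q = Curv2.euler k X Q' := by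
  classical
  haveI := EulerIneqLib.isNoetherian_proper (X := X) k
  have hsupp : CohB1.support Q' = CohB1.support Q := by
    ext x
    refine not_congr ?_
    rw [← Module.length_eq_zero_iff (R := X.presheaf.stalk x) (M := Q'.presheaf.stalk x), ← h x, Module.length_eq_zero_iff]
  have hd' : topologicalKrullDim (CohB1.support Q) ≤ ((0 : ℕ) : WithBot ℕ∞) := by rw [Nat.cast_zero]; exact hd
  have hfin := finite_top_points (DevLib.isClosed_support hQ) hd'
  have hsmall : ∀ N : X.Modules, Coh.IsCoh N → topologicalKrullDim (CohB1.support N) < ((0 : ℕ) : WithBot ℕ∞) →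
      Curv2.euler k X N = 0 := fun N _ hlt => by
    refine euler_isZero k (DevLib.isZero_of_support_empty ?_)
    by_contra hne
    obtain ⟨x, hx⟩ := Set.nonempty_iff_ne_empty.2 hne
    haveI : Nonempty (IrreducibleCloseds (CohB1.support N)) :=
      ⟨⟨closure {⟨x, hx⟩}, isIrreducible_singleton.closure, isClosed_closure⟩⟩
    exact absurd hlt (not_lt.2 (by rw [Nat.cast_zero]; exact Order.krullDim_nonneg_iff.2 inferInstance))
  have hdec := fun (N : X.Modules) (hN : Coh.IsCoh N) (e : CohB1.support N = CohB1.support Q) =>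
    (additive_decomp (Curv2.euler k X) (fun A B ⟨e⟩ => CurveLib.euler_iso (K := k) e)
      (fun S hS h₁ h₂ h₃ => CurveLib.euler_shortExact (K := k) hS h₁ h₂ h₃) (fun N hN => euler_isZero k hN)
      (r := 0) hsmall hN (by rw [e]; exact hd') hfin.toFinset (fun ξ => by simp [e])).2
  rw [hdec Q hQ rfl, hdec Q' hQ' hsupp]
  simp only [h]

end Euler

/-- Tensoring a frame with a generator. -/
theorem IsFrame.tensor {n : ℕ} {E A : X.Modules} {U : X.Opens} {f : Fin n → Γ(E, U)} (h : IsFrame U f)
    {a : Γ(A, U)} (ha : Gen U a) : IsFrame (E := tmod E A) U fun i => pairS E A (f i) a := fun y hy => by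
  let eA : X.presheaf.stalk y ≃ₗ[X.presheaf.stalk y] A.presheaf.stalk y :=
    LinearEquiv.ofBijective (LinearMap.toSpanSingleton _ _ (A.presheaf.germ U y hy a)) (ha.bijective_germ y hy)
  let T := (TensorProduct.rid (X.presheaf.stalk y) (E.presheaf.stalk y)).symm ≪≫ₗ
    LinearEquiv.lTensor _ eA ≪≫ₗ stalkTensor y E A
  have hT : ∀ m, T m = stalkTensor y E A (m ⊗ₜ A.presheaf.germ U y hy a) := fun m => by
    simp [T, eA, LinearMap.toSpanSingleton_apply]
  have e : (Fintype.linearCombination (X.presheaf.stalk y) fun i => (tmod E A).presheaf.germ U y hy (pairS E A (f i) a)) =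
      T.toLinearMap.comp (Fintype.linearCombination (X.presheaf.stalk y) fun i => E.presheaf.germ U y hy (f i)) := by
    refine LinearMap.ext fun r => ?_
    simp only [LinearMap.comp_apply, LinearEquiv.coe_coe, Fintype.linearCombination_apply, map_sum, map_smul]
    exact Finset.sum_congr rfl fun i _ => by rw [germ_pairS, hT]
  rw [e]
  exact T.bijective.comp (h y hy)

theorem gen_frame {L : X.Modules} {U : X.Opens} {g : Γ(L, U)} (hg : Gen U g) :
    IsFrame U (fun _ : Fin 1 => g) := fun y hy => by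
  have e : (⇑(Fintype.linearCombination (X.presheaf.stalk y) fun _ : Fin 1 => L.presheaf.germ U y hy g)) =
      (fun r => r • L.presheaf.germ U y hy g) ∘ (Equiv.funUnique (Fin 1) (X.presheaf.stalk y)) := by
    funext r
    simp [Fintype.linearCombination_apply]
  rw [e]
  exact (hg.bijective_germ y hy).comp (Equiv.bijective _)

theorem pairS_sum_left {M N : X.Modules} {U : X.Opens} {n : ℕ} (c : Fin n → Γ(X, U)) (m : Fin n → Γ(M, U)) (t : Γ(N, U)) :
    pairS M N (∑ j, c j • m j) t = ∑ j, c j • pairS M N (m j) t := by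
  let P : Γ(M, U) →+ Γ(tmod M N, U) := AddMonoidHom.mk' (fun v => pairS M N v t) fun v w => pairS_add_left v w t
  show P (∑ j, c j • m j) = _
  rw [map_sum]
  exact Finset.sum_congr rfl fun j _ => pairS_smul_left _ _ _

variable {n : ℕ} {E L : X.Modules}

theorem isInvertible_of_compat (hE : FlatMod.IsFinLocFreeOfRank n E) (φ : ExtIso n E L) (hc : Compat φ) :
    PicF.IsInvertible L := by
  refine isInvertible_of_gen fun x => ?_
  obtain ⟨_, ⟨V : X.Opens, hV, rfl⟩, hxV, -⟩ := X.isBasis_affineOpens.exists_subset_of_mem_open (Set.mem_univ x) isOpen_univ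
  obtain ⟨U, f, hxU, hUV, hf⟩ := exists_frame hE (Set.finite_singleton x) hV (Set.singleton_subset_iff.2 hxV)
  obtain ⟨_, ⟨D : X.Opens, hD, rfl⟩, hxD, hDU⟩ := X.isBasis_affineOpens.exists_subset_of_mem_open (hxU rfl) U.2
  exact ⟨D, _, hxD, gen_wsec φ hc (V := ⟨D, hD⟩) (hf.res hDU)⟩

/-- In rank zero the top exterior power is trivial. -/
theorem nonempty_iso_of_rank_zero {E L : X.Modules} (hE : FlatMod.IsFinLocFreeOfRank 0 E) (φ : ExtIso 0 E L) (hc : Compat φ) :
    Nonempty (L ≅ Coh.structureModule X) := by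
  classical
  let ω : ∀ V : X.affineOpens, Γ(L, V.1) := fun V => wsec φ V (Fin.elim0 : Fin 0 → Γ(E, V.1))
  have hres : ∀ (V W : X.affineOpens) (h : W.1 ≤ V.1), L.presheaf.map (homOfLE h).op (ω V) = ω W := fun V W h =>
    (hc V W h _).trans (congrArg _ (Subsingleton.elim _ _))
  have hcov : (⊤ : X.Opens) ≤ iSup fun V : X.affineOpens => V.1 := by
    rw [iSup_affineOpens_eq_top]
  have hcomp : TopCat.Presheaf.IsCompatible L.presheaf (fun V : X.affineOpens => V.1) ω := fun a b => by
    refine TopCat.Presheaf.section_ext (⟨L.presheaf, L.isSheaf⟩ : TopCat.Sheaf Ab X) (a.1 ⊓ b.1) _ _ fun y hy => ?_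
    obtain ⟨_, ⟨D : X.Opens, hD, rfl⟩, hyD, hDab₀⟩ := X.isBasis_affineOpens.exists_subset_of_mem_open hy (a.1 ⊓ b.1).2
    have hDab : D ≤ a.1 ⊓ b.1 := hDab₀
    show L.presheaf.germ (a.1 ⊓ b.1) y hy _ = L.presheaf.germ (a.1 ⊓ b.1) y hy _
    rw [L.presheaf.germ_res_apply, L.presheaf.germ_res_apply,
      ← L.presheaf.germ_res_apply (homOfLE (hDab.trans inf_le_left)) y hyD (ω a),
      ← L.presheaf.germ_res_apply (homOfLE (hDab.trans inf_le_right)) y hyD (ω b),
      hres a ⟨D, hD⟩ (hDab.trans inf_le_left), hres b ⟨D, hD⟩ (hDab.trans inf_le_right)]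
  obtain ⟨s, hs, -⟩ := TopCat.Sheaf.existsUnique_gluing' (⟨L.presheaf, L.isSheaf⟩ : TopCat.Sheaf Ab X.carrier)
    (fun V : X.affineOpens => V.1) ⊤ (fun V => homOfLE le_top) hcov ω hcomp
  refine PicProjLib.triv_of_gen_top (gen_of_germ (s := (s : Γ(L, ⊤))) fun y _ => ?_)
  obtain ⟨_, ⟨V : X.Opens, hV, rfl⟩, hyV, -⟩ := X.isBasis_affineOpens.exists_subset_of_mem_open (Set.mem_univ y) isOpen_univ
  obtain ⟨U, f, hyU, -, hf⟩ := exists_frame hE (Set.finite_singleton y) hV (Set.singleton_subset_iff.2 hyV)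
  obtain ⟨_, ⟨D : X.Opens, hD, rfl⟩, hyD, hDU⟩ := X.isBasis_affineOpens.exists_subset_of_mem_open (hyU rfl) U.2
  have hg := (gen_wsec φ hc (V := ⟨D, hD⟩) (hf.res hDU)).bijective_germ y hyD
  have hω : ω ⟨D, hD⟩ = wsec φ ⟨D, hD⟩ (fun i => E.presheaf.map (homOfLE hDU).op (f i)) :=
    congrArg (wsec φ ⟨D, hD⟩) (Subsingleton.elim _ _)
  have hg' : Function.Bijective fun r : X.presheaf.stalk y => r • L.presheaf.germ D y hyD (ω ⟨D, hD⟩) := by
    rw [hω]
    exact hg
  rw [← hs ⟨D, hD⟩] at hg'
  erw [TopCat.Presheaf.germ_res_apply] at hg'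
  exact hg'

variable (k : Type u) [Field k] [X.Over (Spec (CommRingCat.of k))] [IsProper (X ↘ Spec (CommRingCat.of k))]

theorem deg_tensorPow' (hdim : topologicalKrullDim X ≤ 1) {A : X.Modules} (hA : PicF.IsInvertible A) :
    ∀ m : ℕ, Curv2.deg k X (CohB1.tensorPow A m) 1 = m * Curv2.deg k X A 1
  | 0 => by
    show Curv2.deg k X (Coh.structureModule X) 1 = _
    simp [Curv2.deg]
  | m + 1 => by
    have h := S7637.result k X hdim 1 1 _ A
      (CurveLib.isFinLocFreeOfRank_one (isInvertible_tensorPow hA m)) (CurveLib.isFinLocFreeOfRank_one hA)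
    show Curv2.deg k X (CohB1.tensorMod (CohB1.tensorPow A m) A) (1 * 1) = _
    rw [h, deg_tensorPow' hdim hA m]
    push_cast
    ring

theorem deg_eq_det (hdim : topologicalKrullDim X ≤ 1) (hE : FlatMod.IsFinLocFreeOfRank n E) (φ : ExtIso n E L)
    (hc : Compat φ) : Curv2.deg k X E n = Curv2.deg k X L 1 := by
  classical
  haveI := EulerIneqLib.isNoetherian_proper (X := X) k
  rcases Nat.eq_zero_or_pos n with rfl | hn
  · obtain ⟨e⟩ := nonempty_iso_of_rank_zero hE φ hc
    have hz : IsZero E := DevLib.isZero_of_support_empty (Set.eq_empty_of_forall_notMem fun y hy => hy (by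
      obtain ⟨e'⟩ := CurveLib.freeAt_of_isFinLocFreeOfRank hE y
      exact e'.toEquiv.subsingleton))
    rw [CurveLib.deg_iso (k := k) e]
    simp [Curv2.deg, euler_isZero k hz]
  haveI : X.IsSeparated := ⟨by
    rw [show terminal.from X = (X ↘ Spec (CommRingCat.of k)) ≫ terminal.from _ from terminal.hom_ext _ _]
    infer_instance⟩
  haveI : QuasiSeparatedSpace X := quasiSeparatedSpace_of_quasiSeparated (X ↘ Spec (CommRingCat.of k))
  obtain ⟨N, hN⟩ := CurveGlueLib.exists_isAmple (X := X) hdim
  let O := Coh.structureModule X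
  have hO : Coh.IsCoh O := DevLib.isCoh_structureModule X
  haveI := hO.1
  let T : Set X := {x | Curv2.IsAssPoint O x}
  have hT : T.Finite := (S1576.result X O hO ⊤ isCompact_univ).subset fun x hx => ⟨trivial, hx⟩
  obtain ⟨m₀, t₀, hT₀, -, hG₀⟩ := AmpleEmb.exists_genLocus_finite hN hT (U := ⊤) (fun x _ => trivial)
  obtain ⟨U₁, e₁, hTU₁, -, he₁⟩ := exists_frame hE hT hG₀ hT₀
  obtain ⟨m₁, t, hTG, hGU, hG⟩ := AmpleEmb.exists_genLocus_finite hN hT hTU₁
  let A := CohB1.tensorPow N (m₁ + 1)
  have hA : PicF.IsInvertible A := isInvertible_tensorPow hN.1 _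
  let G := CohB1.genLocus A t
  have hGU' : G ≤ U₁ := hGU
  let e : Fin n → Γ(E, G) := fun i => E.presheaf.map (homOfLE hGU').op (e₁ i)
  have he : IsFrame G e := he₁.res hGU'
  let ω : Γ(L, G) := wsec φ ⟨G, hG⟩ e
  have hLi := isInvertible_of_compat hE φ hc
  haveI : Coh.IsQCoh E := (isCoh_of_rank hE).1
  haveI : Coh.IsQCoh L := (CurveLib.isCoh_of_isInvertible hLi).1
  choose kE hkE using fun i => exists_twist_extend hA E t (e i)
  obtain ⟨kω, hkω⟩ := exists_twist_extend hA L t ω
  obtain ⟨M, hM⟩ : ∃ M, M = ∑ i, kE i + kω := ⟨_, rfl⟩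
  have hσ : ∀ i, ∃ σ : Γ(tmod E (CohB1.tensorPow A M), ⊤),
      resT σ G = pairS E _ (e i) (powLoc (resT (sec t) G) M) := fun i => by
    obtain ⟨j, hj⟩ := Nat.exists_eq_add_of_le
      (hM ▸ le_add_right (Finset.single_le_sum (fun _ _ => Nat.zero_le _) (Finset.mem_univ i)) : kE i ≤ M)
    rw [hj]
    exact hkE i j
  choose σ hσ using hσ
  obtain ⟨τ, hτ⟩ : ∃ τ : Γ(tmod L (CohB1.tensorPow A (n * M)), ⊤),
      resT τ G = pairS L _ ω (powLoc (resT (sec t) G) (n * M)) := by
    obtain ⟨j, hj⟩ := Nat.exists_eq_add_of_le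
      ((hM ▸ Nat.le_add_left kω (∑ i, kE i)).trans (Nat.le_mul_of_pos_left M hn) : kω ≤ n * M)
    rw [hj]
    exact hkω j
  let F := tmod E (CohB1.tensorPow A M)
  let F' := tmod L (CohB1.tensorPow A (n * M))
  have key : ∀ x : X, ∃ (bT : Fin n → F.presheaf.stalk x) (B : Matrix (Fin n) (Fin n) (X.presheaf.stalk x))
      (bL : Fin 1 → F'.presheaf.stalk x),
      Function.Bijective (Fintype.linearCombination (X.presheaf.stalk x) bT) ∧
      B.det ∈ nonZeroDivisors (X.presheaf.stalk x) ∧
      (∀ i, F.presheaf.germ ⊤ x trivial (σ i) = ∑ j, B i j • bT j) ∧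
      Function.Bijective (Fintype.linearCombination (X.presheaf.stalk x) bL) ∧
      F'.presheaf.germ ⊤ x trivial τ = B.det • bL 0 ∧ (x ∈ G → IsUnit B.det) := by
    intro x
    obtain ⟨W₀, a₀, hxW₀, ha₀⟩ := exists_gen_nhd hA x
    obtain ⟨_, ⟨V₁ : X.Opens, hV₁, rfl⟩, hxV₁, hV₁W⟩ := X.isBasis_affineOpens.exists_subset_of_mem_open hxW₀ W₀.2
    obtain ⟨U₂, f₂, hxU₂, hU₂V, hf₂⟩ := exists_frame hE (Set.finite_singleton x) hV₁ (Set.singleton_subset_iff.2 hxV₁)
    obtain ⟨_, ⟨V : X.Opens, hV, rfl⟩, hxV, hVU₀⟩ := X.isBasis_affineOpens.exists_subset_of_mem_open (hxU₂ rfl) U₂.2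
    have hVU : V ≤ U₂ := hVU₀
    have hVW : V ≤ W₀ := hVU.trans (hU₂V.trans hV₁W)
    let f : Fin n → Γ(E, V) := fun i => E.presheaf.map (homOfLE hVU).op (f₂ i)
    have hf : IsFrame V f := hf₂.res hVU
    let a : Γ(A, V) := A.presheaf.map (homOfLE hVW).op a₀
    have ha : Gen V a := ha₀.res hVW
    obtain ⟨c, hc'⟩ := (ha V le_rfl).2 (resT (sec t) V)
    have hct : c • a = resT (sec t) V := by
      rw [← hc']
      exact congrArg (c • ·) (ConcreteCategory.congr_hom (A.presheaf.map_id _) a).symm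
    have hfF : IsFrame (E := F) V fun i => pairS E _ (f i) (powLoc a M) := hf.tensor (gen_powLoc ha M)
    let ωf : Γ(L, V) := wsec φ ⟨V, hV⟩ f
    have hgF' : Gen V (pairS L _ ωf (powLoc a (n * M))) := gen_pairS (gen_wsec φ hc (V := ⟨V, hV⟩) hf) (gen_powLoc ha _)
    choose B hB using fun i => hfF.bijective.2 (resT (σ i) V)
    obtain ⟨d, hd'⟩ := (hgF' V le_rfl).2 (resT τ V)
    have hd : d • pairS L _ ωf (powLoc a (n * M)) = resT τ V := by
      rw [← hd']
      exact congrArg (d • ·) (ConcreteCategory.congr_hom (F'.presheaf.map_id _) _).symm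
    -- on `G ⊓ V`
    let W := G ⊓ V
    have hW : IsAffineOpen W := isAffineOpen_inf_genLocus hA t hV
    have hWG : W ≤ G := inf_le_left
    have hWV : W ≤ V := inf_le_right
    let rX := X.presheaf.map (homOfLE hWV).op
    have hcu : IsUnit (rX c) := by
      have hle : W ≤ X.basicOpen c := (genLocus_inf_eq_basicOpen t ha hct).le
      rw [show rX = X.presheaf.map (homOfLE (X.basicOpen_le c)).op ≫ X.presheaf.map (homOfLE hle).op by
        rw [← Functor.map_comp]; rfl]
      exact (X.toRingedSpace.isUnit_res_basicOpen c).map (X.presheaf.map (homOfLE hle).op).hom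
    let a' : Γ(A, W) := A.presheaf.map (homOfLE hWV).op a
    have ha' : Gen W a' := ha.res hWV
    have ht' : resT (sec t) W = rX c • a' := by
      rw [show resT (sec t) W = A.presheaf.map (homOfLE hWV).op (resT (sec t) V) from (res_res _ _ _).symm,
        ← hct]
      exact Scheme.Modules.map_smul A _ c a
    let e' : Fin n → Γ(E, W) := fun i => E.presheaf.map (homOfLE hWG).op (e i)
    let f' : Fin n → Γ(E, W) := fun i => E.presheaf.map (homOfLE hWV).op (f i)
    have hf' : IsFrame W f' := hf.res hWV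
    have he' : IsFrame W e' := he.res hWG
    have hpowW : ∀ m : ℕ, (CohB1.tensorPow A m).presheaf.map (homOfLE hWG).op (powLoc (resT (sec t) G) m) =
        rX c ^ m • powLoc a' m := fun m => by
      rw [powLoc_res, show A.presheaf.map (homOfLE hWG).op (resT (sec t) G) = resT (sec t) W from res_res _ _ _,
        ht', powLoc_smul]
    have hrow : ∀ i, rX c ^ M • e' i = ∑ j, rX (B i j) • f' j := fun i => by
      refine pairS_gen_injective (gen_powLoc ha' M) ?_
      rw [pairS_sum_left, pairS_smul_left, ← pairS_smul_right]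
      have h1 := congrArg (F.presheaf.map (homOfLE hWG).op) (hσ i)
      rw [res_pairS, hpowW] at h1
      refine h1.symm.trans ?_
      rw [show F.presheaf.map (homOfLE hWG).op (resT (σ i) G) = F.presheaf.map (homOfLE hWV).op (resT (σ i) V) from
        (res_res _ _ _).trans (res_res _ _ _).symm, ← hB i,
        Fintype.linearCombination_apply, map_sum]
      refine Finset.sum_congr rfl fun j _ => ?_
      rw [Scheme.Modules.map_smul, res_pairS, powLoc_res]
    have hdetW : rX (Matrix.det B) • wsec φ ⟨W, hW⟩ f' = rX c ^ (n * M) • wsec φ ⟨W, hW⟩ e' := by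
      have h1 := wsec_smul φ (V := ⟨W, hW⟩) hf' fun i j => rX (B i j)
      rw [← funext hrow] at h1
      have h2 := wsec_smul φ (V := ⟨W, hW⟩) he' (rX c ^ M • (1 : Matrix (Fin n) (Fin n) Γ(X, W)))
      have h3 : (fun i => ∑ j, (rX c ^ M • (1 : Matrix (Fin n) (Fin n) Γ(X, W))) i j • e' j) = fun i => rX c ^ M • e' i := by
        funext i
        rw [Finset.sum_eq_single i] <;> simp +contextual [Matrix.one_apply, eq_comm]
      rw [h3, Matrix.det_smul, Matrix.det_one, mul_one, Fintype.card_fin, ← pow_mul, mul_comm M n] at h2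
      rw [← h2, h1]
      congr 1
      exact (RingHom.map_det rX.hom B).trans rfl
    have hτW : rX d • wsec φ ⟨W, hW⟩ f' = rX c ^ (n * M) • wsec φ ⟨W, hW⟩ e' := by
      refine pairS_gen_injective (gen_powLoc ha' (n * M)) ?_
      have h1 := congrArg (F'.presheaf.map (homOfLE hWG).op) hτ
      rw [res_pairS, hpowW, hc ⟨G, hG⟩ ⟨W, hW⟩ hWG e,
        show F'.presheaf.map (homOfLE hWG).op (resT τ G) = F'.presheaf.map (homOfLE hWV).op (resT τ V) from
          (res_res _ _ _).trans (res_res _ _ _).symm, ← hd, Scheme.Modules.map_smul,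
        res_pairS, powLoc_res, hc ⟨V, hV⟩ ⟨W, hW⟩ hWV f, pairS_smul_right] at h1
      rw [pairS_smul_left, pairS_smul_left]
      exact h1
    have hdd : rX d = rX (Matrix.det B) := wsec_injective φ (V := ⟨W, hW⟩) hf' (hτW.trans hdetW.symm)
    have hdu : IsUnit (rX (Matrix.det B)) := by
      obtain ⟨r, hr⟩ := wsec_span φ (V := ⟨W, hW⟩) he' (wsec φ ⟨W, hW⟩ f')
      have h1 : (rX (Matrix.det B) * r) • wsec φ ⟨W, hW⟩ e' = rX c ^ (n * M) • wsec φ ⟨W, hW⟩ e' := by
        rw [mul_smul, hr, hdetW]
      exact isUnit_of_mul_isUnit_left (wsec_injective φ (V := ⟨W, hW⟩) he' h1 ▸ hcu.pow (n * M))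
    have hdV : d = Matrix.det B := sub_eq_zero.1 (AssLib.eq_zero_of_germ_ass (M := O) (V := V) (d - Matrix.det B) fun y hy hay => by
      have hyW : y ∈ W := ⟨hTG hay, hy⟩
      rw [← O.presheaf.germ_res_apply (homOfLE hWV) y hyW (d - Matrix.det B)]
      have h1 : X.presheaf.map (homOfLE hWV).op (d - Matrix.det B) = 0 := by rw [map_sub, sub_eq_zero]; exact hdd
      exact (congrArg (O.presheaf.germ W y hyW) h1).trans (map_zero _))
    have hunit : ∀ (y : X) (hy : y ∈ V), y ∈ G → IsUnit (X.presheaf.germ V y hy (Matrix.det B)) := fun y hy hyG => by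
      rw [← X.presheaf.germ_res_apply (homOfLE hWV) y (⟨hyG, hy⟩ : y ∈ W) (Matrix.det B)]
      exact hdu.map (X.presheaf.germ W y ⟨hyG, hy⟩).hom
    have hdetx : Matrix.det ((X.presheaf.germ V x hxV).hom.mapMatrix B) = X.presheaf.germ V x hxV (Matrix.det B) :=
      ((X.presheaf.germ V x hxV).hom.map_det B).symm
    refine ⟨fun j => F.presheaf.germ V x hxV (pairS E _ (f j) (powLoc a M)), (X.presheaf.germ V x hxV).hom.mapMatrix B,
      fun _ => F'.presheaf.germ V x hxV (pairS L _ ωf (powLoc a (n * M))), hfF x hxV, ?_, fun i => ?_,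
      gen_frame hgF' x hxV, ?_, fun hxG => ?_⟩
    · rw [hdetx, mem_nonZeroDivisors_iff_right]
      intro r hr
      obtain ⟨V₃, hx₃, s, rfl⟩ := TopCat.Presheaf.exists_germ_eq X.presheaf r
      by_contra hne
      have hxx : x ∈ V₃ ⊓ V := ⟨hx₃, hxV⟩
      let s' := X.presheaf.map (homOfLE (inf_le_left : V₃ ⊓ V ≤ V₃)).op s
      let d' := X.presheaf.map (homOfLE (inf_le_right : V₃ ⊓ V ≤ V)).op (Matrix.det B)
      have e3 : X.presheaf.germ (V₃ ⊓ V) x hxx (s' * d') = X.presheaf.germ (V₃ ⊓ V) x hxx 0 := by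
        rw [map_mul, map_zero, X.presheaf.germ_res_apply, X.presheaf.germ_res_apply]
        exact hr
      obtain ⟨V₄, hx₄, i₁, i₂, e4⟩ := TopCat.Presheaf.germ_eq X.presheaf x hxx hxx _ _ e3
      rw [map_zero] at e4
      have hs4 : O.presheaf.germ V₄ x hx₄ (X.presheaf.map i₁.op s') ≠ 0 := fun h0 => hne (by
        have h0' := (DevLib.unit_germ_congr X hx₄ hx₄ (X.presheaf.map i₁.op s') 0).1 (h0.trans (map_zero _).symm)
        rw [map_zero, X.presheaf.germ_res_apply, X.presheaf.germ_res_apply] at h0'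
        exact h0')
      obtain ⟨y, hy, hyx, hay, hyne⟩ := AssLib.exists_isAssPoint (M := O) (X.presheaf.map i₁.op s') hx₄ hs4
      have hu := hunit y (i₁.le hy).2 (hTG hay)
      refine hyne (((DevLib.unit_germ_congr X hy hy (X.presheaf.map i₁.op s') 0).2 ?_).trans (map_zero _))
      rw [map_zero]
      have e5 := congrArg (X.presheaf.germ V₄ y hy) e4
      rw [map_zero, map_mul, map_mul] at e5
      refine hu.mul_left_eq_zero.1 ?_
      rw [← e5]
      congr 1
      exact ((X.presheaf.germ_res_apply _ _ _ _).trans (X.presheaf.germ_res_apply _ _ _ _)).symm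
    · rw [show F.presheaf.germ ⊤ x trivial (σ i) = F.presheaf.germ V x hxV (resT (σ i) V) from
        (F.presheaf.germ_res_apply _ _ _ _).symm, ← hB i, Fintype.linearCombination_apply, map_sum]
      exact Finset.sum_congr rfl fun j _ => PresheafOfModules.germ_smul (R := X.presheaf) F.val x V hxV _ _
    · rw [show F'.presheaf.germ ⊤ x trivial τ = F'.presheaf.germ V x hxV (resT τ V) from
        (F'.presheaf.germ_res_apply _ _ _ _).symm, ← hd, hdetx, ← hdV]
      exact PresheafOfModules.germ_smul (R := X.presheaf) F'.val x V hxV _ _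
    · rw [hdetx]
      exact hunit x hxV hxG
  choose bT B bL hbT hBd hσx hbL hτx hBu using key
  let D : ∀ x : X, Matrix (Fin 1) (Fin 1) (X.presheaf.stalk x) := fun x => Matrix.of fun _ _ => (B x).det
  have hDd : ∀ x, (D x).det = (B x).det := fun x => by simp [D]
  haveI hm₁ : Mono (descS σ) := mono_descS σ fun x => ⟨bT x, B x, hbT x, hBd x, hσx x⟩
  have hτ₁ : ∀ (x : X) (i : Fin 1), F'.presheaf.germ ⊤ x trivial ((fun _ : Fin 1 => τ) i) = ∑ j, D x i j • bL x j :=
    fun x i => by rw [Fin.sum_univ_one]; exact hτx x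
  haveI hm₂ : Mono (descS fun _ : Fin 1 => τ) :=
    mono_descS _ fun x => ⟨bL x, D x, hbL x, by rw [hDd]; exact hBd x, hτ₁ x⟩
  have hF : FlatMod.IsFinLocFreeOfRank n E := hE
  have hAM := CurveLib.isFinLocFreeOfRank_one (isInvertible_tensorPow hA M)
  have hAM' := CurveLib.isFinLocFreeOfRank_one (isInvertible_tensorPow hA (n * M))
  have hL1 := CurveLib.isFinLocFreeOfRank_one hLi
  have hFc : Coh.IsCoh F := CurveLib.isCoh_tmod (isCoh_of_rank hE) (isCoh_of_rank hAM)
  have hFc' : Coh.IsCoh F' := CurveLib.isCoh_tmod (isCoh_of_rank hL1) (isCoh_of_rank hAM')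
  have hfc := isCoh_of_rank (isFinLocFreeOfRank_freeMod (X := X) n)
  have hfc' := isCoh_of_rank (isFinLocFreeOfRank_freeMod (X := X) 1)
  have hQ := (QCohLib.isCoh_kernel_cokernel (descS σ) hfc hFc).2
  have hQ' := (QCohLib.isCoh_kernel_cokernel (descS fun _ : Fin 1 => τ) hfc' hFc').2
  have hlen : ∀ x, Module.length (X.presheaf.stalk x) ((cokernel (descS σ)).presheaf.stalk x) =
      Ring.ord (X.presheaf.stalk x) (B x).det := fun x => length_coker_descS σ x (bT x) (hbT x) (B x) (hBd x) (hσx x)
  have hd0 : topologicalKrullDim (CohB1.support (cokernel (descS σ))) ≤ 0 := by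
    refine S1604.dim_le_zero_of_specializes hdim (DevLib.isClosed_support hQ) fun x hx => ?_
    have hxG : x ∉ G := fun hxG => hx (by
      rw [← Module.length_eq_zero_iff (R := X.presheaf.stalk x), hlen]
      exact Ring.ord_of_isUnit (hBu x hxG))
    haveI : Nontrivial (O.presheaf.stalk x) := by
      refine ⟨CurveLib.uni X x, 0, fun h0 => one_ne_zero (α := X.presheaf.stalk x) ((ParaFLib.bijective_oneG x).1 ?_)⟩
      show (1 : X.presheaf.stalk x) • CurveLib.uni X x = (0 : X.presheaf.stalk x) • CurveLib.uni X x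
      rw [h0, smul_zero, smul_zero]
    obtain ⟨z, hzx, hz⟩ := AssLib.exists_isAssPoint_of_nontrivial (M := O) (x := x) inferInstance
    exact ⟨z, hzx, fun hxz => hxG (hxz.mem_open G.2 (hTG hz))⟩
  have hQQ : Curv2.euler k X (cokernel (descS σ)) = Curv2.euler k X (cokernel (descS fun _ : Fin 1 => τ)) :=
    euler_eq_of_length k hQ hQ' hd0 fun x => by
      rw [hlen, length_coker_descS (fun _ : Fin 1 => τ) x (bL x) (hbL x) (D x) (by rw [hDd]; exact hBd x) (hτ₁ x), hDd]
  have h1 := CurveLib.euler_shortExact (K := k) (DevLib.cokerSeq_shortExact (descS σ)) hfc hFc hQ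
  have h2 := CurveLib.euler_shortExact (K := k) (DevLib.cokerSeq_shortExact (descS fun _ : Fin 1 => τ)) hfc' hFc' hQ'
  change Curv2.euler k X F = Curv2.euler k X (FlatMod.freeMod X n) + Curv2.euler k X (cokernel (descS σ)) at h1
  change Curv2.euler k X F' = Curv2.euler k X (FlatMod.freeMod X 1) + Curv2.euler k X (cokernel (descS fun _ : Fin 1 => τ)) at h2
  rw [euler_freeMod] at h1 h2
  have h3 := S7637.result k X hdim n 1 E _ hE hAM
  have h4 := S7637.result k X hdim 1 1 L _ hL1 hAM'
  rw [deg_tensorPow' k hdim hA] at h3 h4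
  have h5 : Curv2.deg k X F n = Curv2.deg k X F' 1 := by
    simp only [Curv2.deg]
    linarith [h1, h2, hQQ]
  rw [mul_one] at h3
  change Curv2.deg k X F n = _ at h3
  change Curv2.deg k X F' (1 * 1) = _ at h4
  rw [h3, h4] at h5
  push_cast at h5
  linarith

end Groth.Agent.DegDevLib
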