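import Groth.Agent.DegDevLib.Frame
import Groth.Prelude.Def_ExtPow2
import Mathlib.LinearAlgebra.ExteriorPower.Basic
import Mathlib.LinearAlgebra.Determinant
/-!
Top exterior powers over frames.
-/

set_option autoImplicit false
set_option backward.isDefEq.respectTransparency false
set_option linter.style.haveILetI false

universe u

open CategoryTheory CategoryTheory.Limits AlgebraicGeometry TopologicalSpace
open Groth.Agent.PullbackMod Groth.Agent.DCohLib Groth.Agent.ParaFLib Groth.Agent.AmpleLib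

noncomputable section

namespace Groth.Agent.DegDevLib

section Algebra

variable {R : Type*} [CommRing R] {M : Type*} [AddCommGroup M] [Module R M] {n : ℕ}

theorem wedge_eq_det_smul (b : Module.Basis (Fin n) R M) (v : Fin n → M) :
    exteriorPower.ιMulti R n v = b.det v • exteriorPower.ιMulti R n (b : Fin n → M) := by
  classical
  suffices h : exteriorPower.ιMulti R n =
      (LinearMap.toSpanSingleton R _ (exteriorPower.ιMulti R n (b : Fin n → M))).compAlternatingMap b.det from
    congrArg (fun g : M [⋀^Fin n]→ₗ[R] ⋀[R]^n M => g v) h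
  refine b.ext_alternating fun w hw => ?_
  let σ := Equiv.ofBijective w (Finite.injective_iff_bijective.1 hw)
  show exteriorPower.ιMulti R n ((b : Fin n → M) ∘ σ) = b.det ((b : Fin n → M) ∘ σ) • _
  rw [AlternatingMap.map_perm, AlternatingMap.map_perm, b.det_self]
  simp

theorem wedge_smul_injective (b : Module.Basis (Fin n) R M) {r r' : R}
    (h : r • exteriorPower.ιMulti R n (b : Fin n → M) = r' • exteriorPower.ιMulti R n (b : Fin n → M)) : r = r' := by
  classical
  have h' := congrArg (exteriorPower.alternatingMapLinearEquiv b.det) h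
  simpa [map_smul, exteriorPower.alternatingMapLinearEquiv_apply_ιMulti, b.det_self] using h'

theorem wedge_span (b : Module.Basis (Fin n) R M) (z : ⋀[R]^n M) :
    ∃ r : R, r • exteriorPower.ιMulti R n (b : Fin n → M) = z := by
  have hz : z ∈ Submodule.span R (Set.range (exteriorPower.ιMulti R n (M := M))) := by
    rw [exteriorPower.ιMulti_span]
    trivial
  have hle : Submodule.span R (Set.range (exteriorPower.ιMulti R n (M := M))) ≤
      Submodule.span R {exteriorPower.ιMulti R n (b : Fin n → M)} := by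
    refine Submodule.span_le.2 ?_
    rintro _ ⟨v, rfl⟩
    rw [wedge_eq_det_smul b v]
    exact Submodule.smul_mem _ _ (Submodule.mem_span_singleton_self _)
  exact Submodule.mem_span_singleton.1 (hle hz)

theorem det_rows (b : Module.Basis (Fin n) R M) (A : Matrix (Fin n) (Fin n) R) :
    b.det (fun i => ∑ j, A i j • b j) = A.det := by
  classical
  rw [b.det_apply, ← A.det_transpose]
  congr 1
  ext i j
  rw [Module.Basis.toMatrix_apply, b.repr_sum_self]
  rfl

end Algebra

variable {X : Scheme.{u}} {n : ℕ} {E : X.Modules}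

/-- The basis of sections given by a frame. -/
def IsFrame.basis {U : X.Opens} {f : Fin n → Γ(E, U)} (h : IsFrame U f) : Module.Basis (Fin n) Γ(X, U) Γ(E, U) :=
  Module.Basis.ofEquivFun (LinearEquiv.ofBijective _ h.bijective).symm

theorem IsFrame.basis_apply {U : X.Opens} {f : Fin n → Γ(E, U)} (h : IsFrame U f) :
    (h.basis : Fin n → Γ(E, U)) = f := by
  classical
  funext i
  rw [IsFrame.basis, Module.Basis.coe_ofEquivFun]
  simp [Fintype.linearCombination_apply_single]

/-- Exterior power sections. -/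
abbrev ExtIso (n : ℕ) (E L : X.Modules) : Type _ :=
  ∀ U : X.affineOpens, (L.val.obj (Opposite.op U.1)) ≃ₗ[Γ(X, U.1)] ↥(⋀[Γ(X, U.1)]^n (E.val.obj (Opposite.op U.1)))

variable {L : X.Modules} (φ : ExtIso n E L)

/-- The section attached to a tuple. -/
def wsec (V : X.affineOpens) (f : Fin n → Γ(E, V.1)) : Γ(L, V.1) :=
  (φ V).symm (exteriorPower.ιMulti _ n f)

/-- The restriction compatibility. -/
def Compat : Prop :=
  ∀ (U V : X.affineOpens) (h : V.1 ≤ U.1) (e : Fin n → Γ(E, U.1)),
    L.presheaf.map (homOfLE h).op (wsec φ U e) = wsec φ V fun j => E.presheaf.map (homOfLE h).op (e j)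

theorem wsec_smul {V : X.affineOpens} {f : Fin n → Γ(E, V.1)} (hf : IsFrame V.1 f) (A : Matrix (Fin n) (Fin n) Γ(X, V.1)) :
    wsec φ V (fun i => ∑ j, A i j • f j) = A.det • wsec φ V f := by
  refine Eq.trans (congrArg (φ V).symm ?_) ((φ V).symm.map_smul A.det _)
  have h := wedge_eq_det_smul hf.basis fun i => ∑ j, A i j • hf.basis j
  rw [det_rows hf.basis A, hf.basis_apply] at h
  exact h

theorem wsec_injective {V : X.affineOpens} {f : Fin n → Γ(E, V.1)} (hf : IsFrame V.1 f) {r r' : Γ(X, V.1)}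
    (h : r • wsec φ V f = r' • wsec φ V f) : r = r' := by
  refine wedge_smul_injective hf.basis ?_
  rw [hf.basis_apply]
  exact (φ V).symm.injective ((((φ V).symm.map_smul r _).trans h).trans ((φ V).symm.map_smul r' _).symm)

theorem wsec_span {V : X.affineOpens} {f : Fin n → Γ(E, V.1)} (hf : IsFrame V.1 f) (z : Γ(L, V.1)) :
    ∃ r : Γ(X, V.1), r • wsec φ V f = z := by
  obtain ⟨r, hr⟩ := wedge_span hf.basis (φ V z)
  rw [hf.basis_apply] at hr
  refine ⟨r, ?_⟩
  exact ((φ V).symm.map_smul r _).symm.trans ((φ V).symm_apply_eq.2 hr)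

/-- A frame gives a generator of the exterior power. -/
theorem gen_wsec (hc : Compat φ) {V : X.affineOpens} {f : Fin n → Γ(E, V.1)} (hf : IsFrame V.1 f) :
    Gen V.1 (wsec φ V f) := gen_of_germ fun y hy => by
  constructor
  · intro r r' h
    obtain ⟨W, hyW, a, ha⟩ := TopCat.Presheaf.exists_germ_eq X.presheaf r
    obtain ⟨W', hyW', a', ha'⟩ := TopCat.Presheaf.exists_germ_eq X.presheaf r'
    have e : L.presheaf.germ (W ⊓ W' ⊓ V.1) y ⟨⟨hyW, hyW'⟩, hy⟩
        (X.presheaf.map (homOfLE (inf_le_left.trans inf_le_left : W ⊓ W' ⊓ V.1 ≤ W)).op a •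
          L.presheaf.map (homOfLE (inf_le_right : W ⊓ W' ⊓ V.1 ≤ V.1)).op (wsec φ V f)) =
        L.presheaf.germ (W ⊓ W' ⊓ V.1) y ⟨⟨hyW, hyW'⟩, hy⟩
        (X.presheaf.map (homOfLE (inf_le_left.trans inf_le_right : W ⊓ W' ⊓ V.1 ≤ W')).op a' •
          L.presheaf.map (homOfLE (inf_le_right : W ⊓ W' ⊓ V.1 ≤ V.1)).op (wsec φ V f)) := by
      refine (PresheafOfModules.germ_smul (R := X.presheaf) L.val y _ _ _ _).trans
        (Eq.trans ?_ (PresheafOfModules.germ_smul (R := X.presheaf) L.val y _ _ _ _).symm)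
      refine Eq.trans ?_ (h.trans ?_)
      · exact congrArg₂ (· • ·) ((X.presheaf.germ_res_apply _ _ _ a).trans ha) (L.presheaf.germ_res_apply _ _ _ _)
      · exact congrArg₂ (· • ·) ((X.presheaf.germ_res_apply _ _ _ a').trans ha').symm
          (L.presheaf.germ_res_apply _ _ _ _).symm
    obtain ⟨W₁, hy₁, i₁, i₂, e₁⟩ := TopCat.Presheaf.germ_eq L.presheaf y _ _ _ _ e
    obtain rfl : i₁ = i₂ := Subsingleton.elim _ _
    obtain ⟨_, ⟨D : X.Opens, hD, rfl⟩, hyD, hDW₀⟩ := X.isBasis_affineOpens.exists_subset_of_mem_open hy₁ W₁.2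
    have hDW : D ≤ W₁ := hDW₀
    have hDV : D ≤ V.1 := le_trans hDW (i₁.le.trans inf_le_right)
    have e₂ := congrArg (L.presheaf.map (homOfLE hDW).op) e₁
    simp only [Scheme.Modules.map_smul, ← ConcreteCategory.comp_apply, ← Functor.map_comp, ← op_comp] at e₂
    rw [show homOfLE hDW ≫ i₁ ≫ homOfLE (inf_le_right : W ⊓ W' ⊓ V.1 ≤ V.1) = homOfLE hDV from
      Subsingleton.elim _ _, hc V ⟨D, hD⟩ hDV f] at e₂
    have e₃ := wsec_injective φ (V := ⟨D, hD⟩) (hf.res hDV) e₂
    rw [← ha, ← ha']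
    have e₄ := congrArg (X.presheaf.germ D y hyD) e₃
    rwa [X.presheaf.germ_res_apply, X.presheaf.germ_res_apply] at e₄
  · intro z
    obtain ⟨W, hyW, s, rfl⟩ := TopCat.Presheaf.exists_germ_eq L.presheaf z
    obtain ⟨_, ⟨D : X.Opens, hD, rfl⟩, hyD, hDW₀⟩ :=
      X.isBasis_affineOpens.exists_subset_of_mem_open (show y ∈ W ⊓ V.1 from ⟨hyW, hy⟩) (W ⊓ V.1).2
    have hDW : D ≤ W ⊓ V.1 := hDW₀
    obtain ⟨r, hr⟩ := wsec_span φ (V := ⟨D, hD⟩) (hf.res (le_trans hDW inf_le_right))
      (L.presheaf.map (homOfLE (le_trans hDW inf_le_left : D ≤ W)).op s)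
    refine ⟨X.presheaf.germ D y hyD r, ?_⟩
    show _ • L.presheaf.germ V.1 y hy _ = _
    rw [← L.presheaf.germ_res_apply (homOfLE (le_trans hDW inf_le_right : D ≤ V.1)) y hyD (wsec φ V f),
      hc V ⟨D, hD⟩ (le_trans hDW inf_le_right) f,
      ← L.presheaf.germ_res_apply (homOfLE (le_trans hDW inf_le_left : D ≤ W)) y hyD s, ← hr]
    exact (PresheafOfModules.germ_smul (R := X.presheaf) L.val y D hyD r _).symm

end Groth.Agent.DegDevLib
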