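import Groth.Agent.DegDevLib.Deg
/-!
The decomposition over the irreducible components of a scheme of dimension at most one.
-/

set_option autoImplicit false
set_option backward.isDefEq.respectTransparency false
set_option linter.style.haveILetI false

universe u

open CategoryTheory CategoryTheory.Limits AlgebraicGeometry TopologicalSpace
open Groth.Agent.IntLib Groth.Agent.CurveLib

noncomputable section

namespace Groth.Agent.DegDevLib

variable {X : Scheme.{u}}

/-- A sum over one-dimensional points is a sum over components. -/
theorem finsum_components (hdim : topologicalKrullDim X ≤ 1) (f : X → ℤ) :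
    (∑ᶠ ξ : X, if topologicalKrullDim (closure ({ξ} : Set X)) = 1 then f ξ else 0) =
      ∑ᶠ Z : irreducibleComponents (X : Type u),
        if topologicalKrullDim (Z.1 : Set X) = 1 then f Z.2.1.genericPoint else 0 := by
  classical
  let g : irreducibleComponents (X : Type u) → X := fun Z => Z.2.1.genericPoint
  have hcl : ∀ Z : irreducibleComponents (X : Type u), closure ({g Z} : Set X) = Z.1 := fun Z =>
    Z.2.1.closure_genericPoint (isClosed_of_mem_irreducibleComponents _ Z.2)
  have hg : Function.Injective g := fun a b h => Subtype.ext (by rw [← hcl a, ← hcl b, h])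
  let F : X → ℤ := fun ξ => if topologicalKrullDim (closure ({ξ} : Set X)) = 1 then f ξ else 0
  have hsub : Function.support F ⊆ Set.range g := fun ξ hξ => by
    have hd : topologicalKrullDim (closure ({ξ} : Set X)) = 1 := by
      by_contra h
      exact hξ (if_neg h)
    refine ⟨⟨_, CurveLib.mem_irreducibleComponents hdim isClosed_closure isIrreducible_singleton.closure hd⟩, ?_⟩
    have h1 : IsGenericPoint (g ⟨_, CurveLib.mem_irreducibleComponents hdim isClosed_closure
        isIrreducible_singleton.closure hd⟩) (closure {ξ}) := hcl _
    exact h1.eq isGenericPoint_closure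
  show ∑ᶠ ξ, F ξ = _
  rw [← finsum_mem_univ, ← finsum_mem_inter_support, Set.univ_inter,
    show Function.support F = Set.range g ∩ Function.support F from (Set.inter_eq_right.2 hsub).symm,
    finsum_mem_inter_support, finsum_mem_range hg]
  exact finsum_congr fun Z => by
    show (if _ then _ else _) = _
    rw [hcl]

theorem radical_componentIdeal [IsNoetherian X] (C : Set X) (hC : C ∈ irreducibleComponents (X : Type u)) :
    (X.irreducibleComponentIdeal C hC).radical =
      Scheme.IdealSheafData.vanishingIdeal (⟨C, isClosed_of_mem_irreducibleComponents C hC⟩ : Closeds X) := by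
  rw [← Scheme.IdealSheafData.vanishingIdeal_support]
  exact congrArg _ (SetLike.coe_injective rfl)

/-- `χ(F ⊗ E) - n χ(F)` through the one-dimensional components. -/
theorem twEuler_components (k : Type u) [Field k] [X.Over (Spec (CommRingCat.of k))]
    [IsProper (X ↘ Spec (CommRingCat.of k))] [IsNoetherian X] (hdim : topologicalKrullDim X ≤ 1) {n : ℕ}
    {E : X.Modules} (hE : FlatMod.IsFinLocFreeOfRank n E) {F : X.Modules} (hF : Coh.IsCoh F) :
    twEuler k n E F = ∑ᶠ Z : irreducibleComponents (X : Type u),
      (if topologicalKrullDim (Z.1 : Set X) = 1 then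
        ((Module.length (X.presheaf.stalk Z.2.1.genericPoint) (F.presheaf.stalk Z.2.1.genericPoint)).toNat : ℤ) *
          @Curv2.deg k _ (X.irreducibleComponentIdeal Z.1 Z.2).radical.subscheme
            ⟨(X.irreducibleComponentIdeal Z.1 Z.2).radical.subschemeι ≫ (X ↘ (Spec (CommRingCat.of k)))⟩
            ((Scheme.Modules.pullback (X.irreducibleComponentIdeal Z.1 Z.2).radical.subschemeι).obj E) n
      else 0) := by
  rw [twEuler_decomp k hE hF ((Topology.IsEmbedding.subtypeVal.isInducing.topologicalKrullDim_le).trans hdim),
    finsum_components hdim]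
  refine finsum_congr fun Z => ?_
  split_ifs
  swap
  · rfl
  refine congrArg (_ * ·) ?_
  have hJ : Scheme.IdealSheafData.vanishingIdeal (⟨closure ({Z.2.1.genericPoint} : Set X), isClosed_closure⟩ : Closeds X) =
      (X.irreducibleComponentIdeal Z.1 Z.2).radical := by
    rw [radical_componentIdeal]
    exact congrArg _ (Closeds.ext (Z.2.1.closure_genericPoint (isClosed_of_mem_irreducibleComponents _ Z.2)))
  show twEuler k n E (ClSub.quotMod _) = _
  rw [hJ]
  exact twEuler_push k hE _

end Groth.Agent.DegDevLib
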