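import Groth.Agent.IntLib.Decomp
import Groth.Agent.IntLib.Coeff
/-!
Additive functions of coherent modules through the components of the support.
-/

set_option autoImplicit false
set_option backward.isDefEq.respectTransparency false
set_option linter.style.haveILetI false

universe u

open CategoryTheory CategoryTheory.Limits AlgebraicGeometry TopologicalSpace
open Groth.Agent.PullbackMod Groth.Agent.DCohLib Groth.Agent.DevLib Groth.Agent.QCohLib
open Groth.Agent.HilbLib Groth.Agent.IntLib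

noncomputable section

namespace Groth.Agent.DegDevLib

variable {X : Scheme.{u}}

/-- Finitely many points of a closed set of dimension at most `r` have closure of dimension `r`. -/
theorem finite_top_points [IsNoetherian X] {C : Set X} (hC : IsClosed C) {r : ℕ}
    (hd : topologicalKrullDim C ≤ (r : WithBot ℕ∞)) :
    {ξ : X | ξ ∈ C ∧ topologicalKrullDim (closure ({ξ} : Set X)) = (r : WithBot ℕ∞)}.Finite := by
  obtain ⟨S, hSf, hSc, hSi, hSU⟩ := NoetherianSpace.exists_finite_set_isClosed_irreducible (s := C) hC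
  choose g hg using fun t : S => QuasiSober.sober (hSi t.1 t.2) (hSc t.1 t.2)
  haveI := hSf.to_subtype
  refine (Set.finite_range g).subset fun ξ hξ => ?_
  obtain ⟨hξC, hξd⟩ := hξ
  rw [hSU] at hξC
  obtain ⟨t, ht, hξt⟩ := hξC
  refine ⟨⟨t, ht⟩, by_contra fun hne => dim_closure_succ ((hg ⟨t, ht⟩).specializes hξt) hne hξd ?_⟩
  rw [(hg ⟨t, ht⟩).def]
  exact (Topology.IsEmbedding.inclusion (hSU ▸ Set.subset_sUnion_of_mem ht)).isInducing.topologicalKrullDim_le.trans hd

/-- An additive function killing smaller supports is read off at the top-dimensional points. -/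
theorem additive_decomp [IsNoetherian X] {G : Type*} [AddCommGroup G] (ψ : X.Modules → G)
    (hiso : ∀ A B : X.Modules, Nonempty (A ≅ B) → ψ A = ψ B)
    (hadd : ∀ S : ShortComplex X.Modules, S.ShortExact → Coh.IsCoh S.X₁ → Coh.IsCoh S.X₂ →
      Coh.IsCoh S.X₃ → ψ S.X₂ = ψ S.X₁ + ψ S.X₃)
    (hzero' : ∀ N : X.Modules, IsZero N → ψ N = 0)
    {r : ℕ} (hsmall : ∀ N : X.Modules, Coh.IsCoh N →
      topologicalKrullDim (CohB1.support N) < (r : WithBot ℕ∞) → ψ N = 0)
    {F : X.Modules} (hF : Coh.IsCoh F) (hd : topologicalKrullDim (CohB1.support F) ≤ (r : WithBot ℕ∞))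
    (s : Finset X)
    (hs : ∀ ξ : X, ξ ∈ s ↔ ξ ∈ CohB1.support F ∧ topologicalKrullDim (closure ({ξ} : Set X)) = r) :
    (∀ ξ ∈ s, Module.length (X.presheaf.stalk ξ) (F.presheaf.stalk ξ) ≠ ⊤) ∧
    ψ F = ∑ ξ ∈ s, ((Module.length (X.presheaf.stalk ξ) (F.presheaf.stalk ξ)).toNat : ℤ) • ψ (compMod ξ) := by
  let P : X.Modules → Prop := fun N =>
    (∀ ξ ∈ s, Module.length (X.presheaf.stalk ξ) (N.presheaf.stalk ξ) ≠ ⊤) ∧
    (ψ N = ∑ ξ ∈ s, ((Module.length (X.presheaf.stalk ξ) (N.presheaf.stalk ξ)).toNat : ℤ) • ψ (compMod ξ))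
  show P F
  refine devissage (CohB1.support F) P ?_ ?_ ?_ ?_ F hF subset_rfl
  · rintro A B ⟨e⟩ ⟨h1, h2⟩
    have hl : ∀ ξ : X, Module.length (X.presheaf.stalk ξ) (B.presheaf.stalk ξ) =
        Module.length (X.presheaf.stalk ξ) (A.presheaf.stalk ξ) := fun ξ =>
      (LinearEquiv.ofBijective _ (stalkLin_bijective_of_iso e ξ)).length_eq.symm
    refine ⟨fun ξ hξ => by rw [hl]; exact h1 ξ hξ, ?_⟩
    rw [← hiso A B ⟨e⟩, h2]
    simp only [hl]
  · intro A hA
    have hl : ∀ ξ : X, Module.length (X.presheaf.stalk ξ) (A.presheaf.stalk ξ) = 0 := fun ξ => by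
      haveI : Subsingleton (A.presheaf.stalk ξ) := not_not.1 fun h =>
        (Set.eq_empty_iff_forall_notMem.1 (support_eq_empty_of_isZero hA) ξ) h
      exact Module.length_eq_zero
    refine ⟨fun ξ _ => by rw [hl]; exact ENat.zero_ne_top, ?_⟩
    rw [hzero' A hA]
    simp [hl]
  · intro S hS h₁ h₂ h₃ _ e₁ e₃
    have hl : ∀ ξ : X, Module.length (X.presheaf.stalk ξ) (S.X₂.presheaf.stalk ξ) =
        Module.length (X.presheaf.stalk ξ) (S.X₁.presheaf.stalk ξ) +
          Module.length (X.presheaf.stalk ξ) (S.X₃.presheaf.stalk ξ) := fun ξ => by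
      haveI := hS.mono_f
      haveI := hS.epi_g
      exact Module.length_eq_add_of_exact _ _ ((mono_iff_stalk S.f).1 inferInstance ξ)
        ((epi_iff_stalk S.g).1 inferInstance ξ) (stalk_exact hS ξ)
    refine ⟨fun ξ hξ => by rw [hl]; exact WithTop.add_ne_top.2 ⟨e₁.1 ξ hξ, e₃.1 ξ hξ⟩, ?_⟩
    rw [hadd S hS h₁ h₂ h₃, e₁.2, e₃.2, ← Finset.sum_add_distrib]
    refine Finset.sum_congr rfl fun ξ hξ => ?_
    rw [hl, ENat.toNat_add (e₁.1 ξ hξ) (e₃.1 ξ hξ), Nat.cast_add, add_zsmul]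
  intro η _ hηT Q hQ _
  have hd' : topologicalKrullDim (closure {η} : Set X) ≤ (r : WithBot ℕ∞) :=
    (Topology.IsEmbedding.inclusion hηT).isInducing.topologicalKrullDim_le.trans hd
  have hsQ : CohB1.support Q ⊆ closure {η} := fun y hy => specializes_iff_mem_closure.1 (hQ.supp y hy)
  have hzero : ∀ ξ ∈ s, ξ ≠ η → Module.length (X.presheaf.stalk ξ) (Q.presheaf.stalk ξ) = 0 := fun ξ hξ hne => by
    haveI : Subsingleton (Q.presheaf.stalk ξ) :=
      not_not.1 fun h => dim_closure_succ (hQ.supp ξ h) (Ne.symm hne) ((hs ξ).1 hξ).2 hd'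
    exact Module.length_eq_zero
  have hone : Module.length (X.presheaf.stalk η) (Q.presheaf.stalk η) = 1 :=
    haveI := hQ.simple
    Module.length_eq_one _ _
  refine ⟨fun ξ hξ => ?_, ?_⟩
  · by_cases h : ξ = η
    · subst h; rw [hone]; exact ENat.one_ne_top
    · rw [hzero ξ hξ h]; exact ENat.zero_ne_top
  by_cases hη : η ∈ s
  · rw [Finset.sum_eq_single η (fun ξ hξ hne => by rw [hzero ξ hξ hne]; simp) (fun h => absurd hη h), hone]
    simp only [ENat.toNat_one, Nat.cast_one, one_zsmul]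
    have hG := isPiece_compMod η
    obtain ⟨H, p, q, hH, hp, hq, hps, hqs⟩ := exists_common hQ hG
    have hcp := (isCoh_kernel_cokernel p hH hQ.coh).2
    have hcq := (isCoh_kernel_cokernel q hH hG.coh).2
    have sm : ∀ N : X.Modules, Coh.IsCoh N → (∀ y ∈ CohB1.support N, η ⤳ y) → η ∉ CohB1.support N →
        ψ N = 0 := fun N hN hsN hξ => hsmall N hN (dim_lt_of_notMem' (isClosed_support hN)
          (fun y hy => specializes_iff_mem_closure.1 (hsN y hy)) hξ ((hs η).1 hη).2)
    have e₁ : ψ Q = ψ H + ψ (cokernel p) := hadd (cokerSeq p) (cokerSeq_shortExact p) hH hQ.coh hcp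
    have e₂ : ψ (compMod η) = ψ H + ψ (cokernel q) := hadd (cokerSeq q) (cokerSeq_shortExact q) hH hG.coh hcq
    rw [e₁, e₂]
    rw [sm _ hcp (supp_coker p hQ.supp) (notMem_support_coker p hps),
      sm _ hcq (supp_coker q hG.supp) (notMem_support_coker q hqs)]
  · have hlt : topologicalKrullDim (closure {η} : Set X) < (r : WithBot ℕ∞) :=
      lt_of_le_of_ne hd' fun h => hη ((hs η).2 ⟨hηT (subset_closure rfl), h⟩)
    rw [Finset.sum_eq_zero fun ξ hξ => by rw [hzero ξ hξ fun e => hη (e ▸ hξ)]; simp]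
    exact hsmall Q hQ.coh
      (lt_of_le_of_lt (Topology.IsEmbedding.inclusion hsQ).isInducing.topologicalKrullDim_le hlt)
where
  dim_lt_of_notMem' {C : Set X} {η : X} {r : ℕ} (hC : IsClosed C) (h : C ⊆ closure {η}) (hη : η ∉ C)
      (hd : topologicalKrullDim (closure ({η} : Set X)) = (r : WithBot ℕ∞)) :
      topologicalKrullDim C < (r : WithBot ℕ∞) :=
    dim_lt_of_notMem hC h hη (by rw [hd]; exact_mod_cast Nat.lt_succ_self r)

end Groth.Agent.DegDevLib
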